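import Mathlib

/-!
Length counting for semilinear cokernels, and splitting of pure submodules of torsion modules.
-/

namespace Groth.Agent.FLLib

open Function

universe u v

section Length

variable {R : Type u} [CommRing R] {σ : R →+* R} [RingHomSurjective σ]

theorem length_eq_of_semilinear_bijective {X Y : Type v} [AddCommGroup X] [Module R X]
    [AddCommGroup Y] [Module R Y] (f : X →ₛₗ[σ] Y) (hf : Bijective f) :
    Module.length R X = Module.length R Y := by
  apply WithBot.coe_injective
  rw [Module.coe_length, Module.coe_length]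
  exact Order.krullDim_eq_of_orderIso (Submodule.orderIsoMapComapOfBijective f hf)

theorem length_quotient_smul_prod {X Y : Type v} [AddCommGroup X] [Module R X] [AddCommGroup Y]
    [Module R Y] (q : R) :
    Module.length R ((X × Y) ⧸ LinearMap.range (LinearMap.lsmul R (X × Y) q)) =
      Module.length R (X ⧸ LinearMap.range (LinearMap.lsmul R X q)) +
        Module.length R (Y ⧸ LinearMap.range (LinearMap.lsmul R Y q)) := by
  rw [← Module.length_prod]
  let g : (X × Y) →ₗ[R] (X ⧸ LinearMap.range (LinearMap.lsmul R X q)) ×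
      (Y ⧸ LinearMap.range (LinearMap.lsmul R Y q)) :=
    LinearMap.prodMap (Submodule.mkQ _) (Submodule.mkQ _)
  have hg : Surjective g := by
    rintro ⟨a, b⟩
    obtain ⟨a, rfl⟩ := Submodule.mkQ_surjective _ a
    obtain ⟨b, rfl⟩ := Submodule.mkQ_surjective _ b
    exact ⟨(a, b), rfl⟩
  have hk : LinearMap.ker g = LinearMap.range (LinearMap.lsmul R (X × Y) q) := by
    ext ⟨a, b⟩
    simp [g, LinearMap.mem_ker, Prod.ext_iff]
  exact ((Submodule.quotEquivOfEq _ _ hk.symm).trans (g.quotKerEquivOfSurjective hg)).length_eq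

/-- If `Φ : M × D → M` is semilinear surjective with kernel the image of `ι : D → M × D`, then `ι`
is strict modulo every scalar fixed by `σ`. -/
theorem mem_smul_of_map_mem_smul {D M : Type v} [AddCommGroup D] [Module R D] [AddCommGroup M]
    [Module R M] [IsArtinian R D] [IsNoetherian R D] [IsArtinian R M] [IsNoetherian R M]
    (ι : D →ₗ[R] M × D) (Φ : M × D →ₛₗ[σ] M) (hs : Surjective Φ) (h0 : ∀ x, Φ (ι x) = 0)
    (hk : ∀ c, Φ c = 0 → ∃ x, ι x = c) (q : R) (hq : σ q = q)
    (x : D) (hx : ∃ c, q • c = ι x) : ∃ y, q • y = x := by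
  set P := LinearMap.range (LinearMap.lsmul R (M × D) q) with hP
  set PM := LinearMap.range (LinearMap.lsmul R M q) with hPM
  set PD := LinearMap.range (LinearMap.lsmul R D q) with hPD
  let h : ((M × D) ⧸ P) →ₛₗ[σ] (M ⧸ PM) := P.liftQ (PM.mkQ.comp Φ) (by
    rintro _ ⟨c, rfl⟩
    rw [LinearMap.mem_ker, LinearMap.comp_apply, Submodule.mkQ_apply,
      Submodule.Quotient.mk_eq_zero, LinearMap.lsmul_apply, map_smulₛₗ, hq]
    exact ⟨Φ c, rfl⟩)
  have hh : ∀ c, h (Submodule.Quotient.mk c) = Submodule.Quotient.mk (Φ c) := fun c => rfl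
  let g : (D ⧸ PD) →ₗ[R] (M × D) ⧸ P := PD.liftQ (P.mkQ.comp ι) (by
    rintro _ ⟨c, rfl⟩
    rw [LinearMap.mem_ker, LinearMap.comp_apply, Submodule.mkQ_apply,
      Submodule.Quotient.mk_eq_zero, LinearMap.lsmul_apply, map_smul]
    exact ⟨ι c, rfl⟩)
  have hg : ∀ c, g (Submodule.Quotient.mk c) = Submodule.Quotient.mk (ι c) := fun c => rfl
  have hsurj : Surjective h := by
    intro m
    obtain ⟨m, rfl⟩ := Submodule.mkQ_surjective _ m
    obtain ⟨c, hc⟩ := hs m
    exact ⟨Submodule.Quotient.mk c, by rw [hh, hc]; rfl⟩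
  have hker : LinearMap.ker h = LinearMap.range g := by
    ext w
    obtain ⟨c, rfl⟩ := Submodule.mkQ_surjective _ w
    simp only [Submodule.mkQ_apply, LinearMap.mem_ker, hh, Submodule.Quotient.mk_eq_zero,
      LinearMap.mem_range]
    constructor
    · rintro ⟨m, hm⟩
      obtain ⟨c', hc'⟩ := hs m
      obtain ⟨z, hz⟩ := hk (c - q • c') (by
        rw [map_sub, map_smulₛₗ, hq, hc', ← hm, LinearMap.lsmul_apply, sub_self])
      refine ⟨Submodule.Quotient.mk z, ?_⟩
      rw [hg, hz, Submodule.Quotient.eq]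
      exact ⟨-c', by rw [LinearMap.lsmul_apply, smul_neg]; abel⟩
    · rintro ⟨y, hy⟩
      obtain ⟨y, rfl⟩ := Submodule.mkQ_surjective _ y
      rw [Submodule.mkQ_apply, hg, Submodule.Quotient.eq] at hy
      obtain ⟨e, he⟩ := hy
      refine ⟨-Φ e, ?_⟩
      rw [LinearMap.lsmul_apply] at he ⊢
      have := congrArg Φ he
      rw [map_sub, h0, zero_sub, map_smulₛₗ, hq] at this
      rw [smul_neg, this, neg_neg]
  let hbar : (((M × D) ⧸ P) ⧸ LinearMap.range g) →ₛₗ[σ] (M ⧸ PM) :=
    (LinearMap.range g).liftQ h (by rw [hker])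
  have hbij : Bijective hbar := by
    constructor
    · rw [← LinearMap.ker_eq_bot]
      exact Submodule.ker_liftQ_eq_bot _ _ _ hker.le
    · intro m
      obtain ⟨w, hw⟩ := hsurj m
      exact ⟨Submodule.Quotient.mk w, hw⟩
  have e1 : Module.length R ((M × D) ⧸ P) =
      Module.length R (LinearMap.range g) + Module.length R (M ⧸ PM) := by
    rw [← length_eq_of_semilinear_bijective hbar hbij]
    exact Module.length_eq_add_of_exact (LinearMap.range g).subtype (LinearMap.range g).mkQ
      (Submodule.injective_subtype _) (Submodule.mkQ_surjective _)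
      (LinearMap.exact_subtype_mkQ _)
  have e2 : Module.length R (D ⧸ PD) =
      Module.length R (LinearMap.ker g) + Module.length R (LinearMap.range g) :=
    Module.length_eq_add_of_exact (LinearMap.ker g).subtype g.rangeRestrict
      (Submodule.injective_subtype _) (LinearMap.surjective_rangeRestrict _)
      (by intro y; simp [LinearMap.mem_ker, Subtype.ext_iff])
  have e3 : Module.length R ((M × D) ⧸ P) =
      Module.length R (M ⧸ PM) + Module.length R (D ⧸ PD) := length_quotient_smul_prod q
  rw [e3, e2] at e1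
  have ne1 : Module.length R (M ⧸ PM) ≠ ⊤ := Module.length_ne_top
  have ne2 : Module.length R (LinearMap.range g) ≠ ⊤ := Module.length_ne_top
  have hzero : Module.length R (LinearMap.ker g) = 0 := by
    have ne3 : Module.length R (LinearMap.ker g) ≠ ⊤ := Module.length_ne_top
    lift Module.length R (M ⧸ PM) to ℕ using ne1 with a
    lift Module.length R (LinearMap.range g) to ℕ using ne2 with b
    lift Module.length R (LinearMap.ker g) to ℕ using ne3 with c
    norm_cast at e1 ⊢
    omega
  haveI := Module.length_eq_zero_iff.mp hzero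
  have : (Submodule.Quotient.mk x : D ⧸ PD) = 0 := by
    obtain ⟨c, hc⟩ := hx
    have hm : (Submodule.Quotient.mk x : D ⧸ PD) ∈ LinearMap.ker g := by
      rw [LinearMap.mem_ker, hg, Submodule.Quotient.mk_eq_zero]
      exact ⟨c, hc⟩
    exact congrArg Subtype.val (Subsingleton.elim ⟨_, hm⟩ (0 : LinearMap.ker g))
  exact (Submodule.Quotient.mk_eq_zero _).mp this

end Length

section Pure

open DirectSum

/-- A pure submodule with finitely generated torsion quotient over a PID has a complement. -/
theorem exists_isCompl_of_pure {R : Type u} [CommRing R] [IsDomain R] [IsPrincipalIdealRing R]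
    {B : Type v} [AddCommGroup B] [Module R B] [Module.Finite R B]
    (A : Submodule R B) (htor : Module.IsTorsion R (B ⧸ A))
    (hpure : ∀ (q : R) (b : B), q • b ∈ A → ∃ a ∈ A, q • a = q • b) :
    ∃ Q : Submodule R B, IsCompl A Q := by
  classical
  obtain ⟨I, _, pr, -, e, ⟨E⟩⟩ := Module.equiv_directSum_of_isTorsion htor
  have lift : ∀ i : I, ∃ b : B, A.mkQ b = E.symm (DirectSum.lof R I _ i (Submodule.Quotient.mk 1)) ∧
      pr i ^ e i • b = 0 := by
    intro i
    obtain ⟨b, hb⟩ := A.mkQ_surjective (E.symm (DirectSum.lof R I _ i (Submodule.Quotient.mk 1)))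
    have hmem : pr i ^ e i • b ∈ A := by
      rw [← Submodule.Quotient.mk_eq_zero, Submodule.Quotient.mk_smul, ← Submodule.mkQ_apply, hb,
        ← map_smul, ← map_smul, ← Submodule.Quotient.mk_smul, smul_eq_mul, mul_one,
        (Submodule.Quotient.mk_eq_zero _).mpr (Submodule.mem_span_singleton_self _), map_zero,
        map_zero]
    obtain ⟨a, ha, hae⟩ := hpure _ _ hmem
    refine ⟨b - a, ?_, by rw [smul_sub, hae, sub_self]⟩
    rw [map_sub, hb, Submodule.mkQ_apply, (Submodule.Quotient.mk_eq_zero _).mpr ha, sub_zero]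
  choose b hb hb0 using lift
  let F : (⨁ i : I, R ⧸ R ∙ pr i ^ e i) →ₗ[R] B :=
    DirectSum.toModule R I B fun i => (R ∙ pr i ^ e i).liftQ (LinearMap.toSpanSingleton R B (b i))
      (by rw [Submodule.span_singleton_le_iff_mem, LinearMap.mem_ker,
            LinearMap.toSpanSingleton_apply, hb0])
  let s : (B ⧸ A) →ₗ[R] B := F ∘ₗ E.toLinearMap
  have hFs : A.mkQ ∘ₗ F = E.symm.toLinearMap := by
    ext i
    simp only [LinearMap.comp_apply]
    have h1 : F (DirectSum.lof R I _ i (Submodule.Quotient.mk 1)) = b i := by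
      simp only [F]
      rw [DirectSum.toModule_lof, Submodule.liftQ_apply, LinearMap.toSpanSingleton_apply, one_smul]
    exact (congrArg A.mkQ h1).trans (hb i)
  have hs : ∀ w, A.mkQ (s w) = w := fun w => by
    have := LinearMap.congr_fun hFs (E w)
    simpa [s] using this
  refine ⟨LinearMap.range s, ?_, ?_⟩
  · rw [Submodule.disjoint_def]
    rintro x hx ⟨w, rfl⟩
    have : w = 0 := by
      rw [← hs w, Submodule.mkQ_apply, Submodule.Quotient.mk_eq_zero]
      exact hx
    rw [this, map_zero]
  · rw [codisjoint_iff, eq_top_iff]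
    intro x _
    refine Submodule.mem_sup.mpr ⟨x - s (A.mkQ x), ?_, s (A.mkQ x), ⟨_, rfl⟩, sub_add_cancel _ _⟩
    rw [← Submodule.Quotient.mk_eq_zero, ← Submodule.mkQ_apply, map_sub, hs, sub_self]

end Pure

end Groth.Agent.FLLib
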